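import Groth.Agent.Lib.CMM.Series
import Groth.Agent.Lib.Comod.Cosemi
import Groth.Prelude.Def_SGA3y
import Mathlib.RingTheory.Bialgebra.Convolution

/-!
# The convolution ring of a connected cocommutative bialgebra
-/

universe u v

open TensorProduct WithConv

namespace GrothLib.CMM

variable {k : Type u} [Field k] {H : Type u} [Ring H] [Bialgebra k H]

local notation "Δ" => (CoalgebraStruct.comul (R := k) (A := H))

variable (k H) in
/-- the socle filtration of the regular comodule -/
noncomputable def S : ℕ → Submodule k H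
  | 0 => ⊥
  | n + 1 => (LinearMap.range ((S n).subtype.rTensor H)).comap (Δ - (TensorProduct.mk k H H).flip 1)

theorem mem_S_succ {n : ℕ} {h : H} :
    h ∈ S k H (n + 1) ↔ Δ h - h ⊗ₜ[k] (1 : H) ∈ LinearMap.range ((S k H n).subtype.rTensor H) := Iff.rfl

theorem S_le_succ : ∀ n, S k H n ≤ S k H (n + 1)
  | 0 => bot_le
  | n + 1 => fun _ hh => mem_S_succ.2
      (GrothLib.Comodule.range_subtype_rTensor_mono (C := H) (S_le_succ n) (mem_S_succ.1 hh))

theorem S_mono : Monotone (S k H) := monotone_nat_of_le_succ S_le_succ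

theorem comul_mem_S {n : ℕ} {h : H} (hh : h ∈ S k H n) : Δ h ∈ LinearMap.range ((S k H n).subtype.rTensor H) := by
  cases n with
  | zero => rw [(Submodule.mem_bot k).1 hh, map_zero]; exact zero_mem _
  | succ n =>
    have := add_mem (GrothLib.Comodule.range_subtype_rTensor_mono (C := H) (S_le_succ n) (mem_S_succ.1 hh))
      (⟨(⟨h, hh⟩ : S k H (n + 1)) ⊗ₜ (1 : H), rfl⟩ :
        h ⊗ₜ[k] (1 : H) ∈ LinearMap.range ((S k H (n + 1)).subtype.rTensor H))
    rwa [sub_add_cancel] at this

theorem one_mem_S : (1 : H) ∈ S k H 1 := by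
  rw [mem_S_succ, Bialgebra.comul_one, Algebra.TensorProduct.one_def, sub_self]
  exact zero_mem _

/-- every simple comodule of a connected coalgebra is trivial -/
theorem exists_S (hconn : SGA3y.IsConnectedCoalg k H) (h : H) : ∃ n, h ∈ S k H n := by
  let W : Submodule k H := ⨆ n, S k H n
  have hdir : Directed (· ≤ ·) (S k H) := (S_mono (k := k) (H := H)).directed_le
  suffices hW : W = ⊤ by
    exact (Submodule.mem_iSup_of_directed _ hdir).1 (show h ∈ W from hW ▸ Submodule.mem_top)
  have hWc : HopfRep.IsSubcomod (k := k) (A := H) W :=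
    GrothLib.Comodule.isSubcomod_iSup (fun n w hw => comul_mem_S hw)
  by_contra hne
  haveI : Nontrivial (H ⧸ W) := Submodule.Quotient.nontrivial_iff.mpr hne
  letI := ComodSub.Comod.quot (HopfRep.Comod.regular k H) W hWc
  obtain ⟨T, -, hT⟩ := GrothLib.Comodule.exists_simpleSub_le (k := k) (C := H) (V := H ⧸ W)
    GrothLib.Comodule.isSubcomod_top top_ne_bot
  letI : HopfRep.Comod k H T := ComodSub.Comod.restr inferInstance T hT.1
  have hTs : HopfRep.IsSimpleComod k H T := (GrothLib.Comodule.isSimpleSub_iff_restr _ T hT.1).1 hT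
  haveI : Nontrivial T := hTs.1
  have hone : GrothLib.Comodule.IsSubcoalg (k := k) (Submodule.span k {(1 : H)}) := by
    intro b hb
    obtain ⟨c, rfl⟩ := Submodule.mem_span_singleton.1 hb
    refine ⟨c • ((⟨1, Submodule.mem_span_singleton_self _⟩ : Submodule.span k {(1 : H)}) ⊗ₜ ⟨1, Submodule.mem_span_singleton_self _⟩), ?_⟩
    rw [map_smul, map_smul, TensorProduct.map_tmul, Bialgebra.comul_one, Algebra.TensorProduct.one_def]
    rfl
  have hmem : (1 : H) ∈ GrothLib.Comodule.coeff k H T :=
    hconn _ GrothLib.Comodule.isSubcoalg_coeff GrothLib.Comodule.coeff_ne_bot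
  have heq : GrothLib.Comodule.coeff k H T = Submodule.span k {(1 : H)} := by
    rcases GrothLib.Comodule.coeff_simple hTs _ ((Submodule.span_singleton_le_iff_mem _ _).2 hmem) hone with h0 | h0
    · have : (1 : H) = 0 := by simpa using h0
      exact absurd (eq_bot_iff.2 fun x _ => by rw [Submodule.mem_bot, ← mul_one x, this, mul_zero])
        (GrothLib.Comodule.coeff_ne_bot (k := k) (C := H) (V := T))
    · exact h0.symm
  obtain ⟨t, ht⟩ := exists_ne (0 : T)
  have hfix : HopfRep.Comod.coact (k := k) (A := H) t = t ⊗ₜ[k] (1 : H) := by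
    obtain ⟨z, hz⟩ := GrothLib.Comodule.coact_mem_coeff (k := k) (C := H) t
    obtain ⟨w, hw⟩ : ∃ w : T, HopfRep.Comod.coact (k := k) (A := H) t = w ⊗ₜ[k] (1 : H) := by
      rw [← hz]
      clear hz
      induction z using TensorProduct.induction_on with
      | zero => exact ⟨0, by simp⟩
      | tmul a c =>
        have hc : (c : H) ∈ Submodule.span k {(1 : H)} := by rw [← heq]; exact c.2
        obtain ⟨r, hr⟩ := Submodule.mem_span_singleton.1 hc
        exact ⟨r • a, by rw [LinearMap.lTensor_tmul, Submodule.coe_subtype, ← hr, TensorProduct.tmul_smul, TensorProduct.smul_tmul']⟩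
      | add a b ha hb =>
        obtain ⟨w1, hw1⟩ := ha
        obtain ⟨w2, hw2⟩ := hb
        exact ⟨w1 + w2, by rw [map_add, hw1, hw2, TensorProduct.add_tmul]⟩
    have := congrArg (fun z => TensorProduct.rid k T ((CoalgebraStruct.counit (R := k) (A := H)).lTensor T z)) hw
    simp only [LinearMap.lTensor_tmul, Bialgebra.counit_one, TensorProduct.rid_tmul, one_smul] at this
    rw [hw, ← (GrothLib.Hopf.Comod.op_counit (k := k) (C := H) t).symm.trans this]
  obtain ⟨v, hv⟩ := W.mkQ_surjective (t : H ⧸ W)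
  have hvfix : W.mkQ.rTensor H (Δ v - v ⊗ₜ[k] (1 : H)) = 0 := by
    rw [map_sub, LinearMap.rTensor_tmul, sub_eq_zero, hv]
    have h2 := congrArg (T.subtype.rTensor H) hfix
    rw [LinearMap.rTensor_tmul, ComodSub.restr_coact_coe] at h2
    refine Eq.trans ?_ h2
    rw [← hv]
    exact (GrothLib.Comodule.IsComodHom.apply (C := H) (ComodSub.isComodHom_mkQ _ W hWc) v).symm
  obtain ⟨z, hz⟩ := ((rTensor_exact H (LinearMap.exact_subtype_mkQ W) W.mkQ_surjective) _).mp hvfix
  obtain ⟨n, hn⟩ : ∃ n, W.subtype.rTensor H z ∈ LinearMap.range ((S k H n).subtype.rTensor H) := by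
    clear hz
    induction z using TensorProduct.induction_on with
    | zero => exact ⟨0, by simp⟩
    | tmul a c =>
      obtain ⟨n, hn⟩ := (Submodule.mem_iSup_of_directed _ hdir).1 a.2
      exact ⟨n, ⟨(⟨a, hn⟩ : S k H n) ⊗ₜ c, rfl⟩⟩
    | add a b ha hb =>
      obtain ⟨n1, h1⟩ := ha
      obtain ⟨n2, h2⟩ := hb
      exact ⟨max n1 n2, by
        rw [map_add]
        exact add_mem (GrothLib.Comodule.range_subtype_rTensor_mono (C := H) (S_mono (le_max_left n1 n2)) h1)
          (GrothLib.Comodule.range_subtype_rTensor_mono (C := H) (S_mono (le_max_right n1 n2)) h2)⟩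
  rw [hz] at hn
  have hvW : v ∈ W := Submodule.mem_iSup_of_mem (n + 1) (mem_S_succ.2 hn)
  exact ht (Subtype.ext (hv.symm.trans ((Submodule.Quotient.mk_eq_zero W).2 hvW)))

section Conv

variable {A : Type v} [Ring A] [Algebra k A]

variable (k H A) in
/-- the convolution ring -/
abbrev Conv : Type max u v := WithConv (H →ₗ[k] A)

theorem Conv.mul_eq (f g : Conv k H A) (h : H) :
    (f * g) h = LinearMap.mul' k A (TensorProduct.map f.ofConv g.ofConv (Δ h)) := rfl

theorem Conv.mul_vanish_left (f g : Conv k H A) {n : ℕ} (hf : ∀ h ∈ S k H n, f h = 0) {h : H} (hh : h ∈ S k H n) :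
    (f * g) h = 0 := by
  obtain ⟨z, hz⟩ := comul_mem_S hh
  rw [Conv.mul_eq, ← hz]
  clear hz
  induction z using TensorProduct.induction_on with
  | zero => simp
  | tmul a c => simp [hf _ a.2]
  | add a b ha hb => simp only [map_add, ha, hb, add_zero]

theorem Conv.mul_vanish_right [Coalgebra.IsCocomm k H] (g f : Conv k H A) {n : ℕ} (hf : ∀ h ∈ S k H n, f h = 0)
    {h : H} (hh : h ∈ S k H n) : (g * f) h = 0 := by
  obtain ⟨z, hz⟩ := comul_mem_S hh
  rw [Conv.mul_eq, ← Coalgebra.comm_comul k h, ← hz]
  clear hz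
  induction z using TensorProduct.induction_on with
  | zero => simp
  | tmul a c => simp [hf _ a.2]
  | add a b ha hb => simp only [map_add, ha, hb, add_zero]

variable [Coalgebra.IsCocomm k H]

variable (k H A) in
/-- the maps vanishing on a step of the filtration -/
noncomputable def I (n : ℕ) : Ideal (Conv k H A) where
  carrier := {f | ∀ h ∈ S k H n, f h = 0}
  add_mem' {f g} hf hg h hh := by simp [hf h hh, hg h hh]
  zero_mem' h _ := rfl
  smul_mem' g f hf h hh := Conv.mul_vanish_right g f hf hh

instance (n : ℕ) : (I k H A n).IsTwoSided where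
  mul_mem_of_left g hf := fun h hh => Conv.mul_vanish_left _ g hf hh

theorem mem_I {n : ℕ} {f : Conv k H A} : f ∈ I k H A n ↔ ∀ h ∈ S k H n, f h = 0 := Iff.rfl

variable (k H A) in
/-- restriction to a step of the filtration -/
noncomputable def q (n : ℕ) : Conv k H A →ₐ[k] Conv k H A ⧸ I k H A n := Ideal.Quotient.mkₐ k (I k H A n)

theorem q_eq_iff {n : ℕ} {f g : Conv k H A} : q k H A n f = q k H A n g ↔ ∀ h ∈ S k H n, f h = g h := by
  change Ideal.Quotient.mk (I k H A n) f = Ideal.Quotient.mk (I k H A n) g ↔ _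
  rw [Ideal.Quotient.eq, mem_I]
  exact forall₂_congr fun h _ => sub_eq_zero

/-- a map killing `1` is nilpotent on each step -/
theorem pow_vanish {e : Conv k H A} (he : e 1 = 0) : ∀ n, ∀ h ∈ S k H n, (e ^ n) h = 0
  | 0 => fun h hh => by rw [(Submodule.mem_bot k).1 hh]; exact map_zero _
  | n + 1 => fun h hh => by
    obtain ⟨z, hz⟩ := mem_S_succ.1 hh
    rw [pow_succ, Conv.mul_eq, eq_add_of_sub_eq hz.symm, map_add, map_add, TensorProduct.map_tmul, LinearMap.mul'_apply,
      show e.ofConv 1 = 0 from he, mul_zero, add_zero]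
    clear hz
    induction z using TensorProduct.induction_on with
    | zero => simp
    | tmul a c =>
      simp only [LinearMap.rTensor_tmul, Submodule.coe_subtype, TensorProduct.map_tmul, LinearMap.mul'_apply]
      rw [pow_vanish he n a a.2, zero_mul]
    | add a b ha hb => simp only [map_add, ha, hb, add_zero]

theorem q_pow_eq_zero {e : Conv k H A} (he : e 1 = 0) (n : ℕ) : q k H A n e ^ n = 0 := by
  rw [← map_pow, ← map_zero (q k H A n), q_eq_iff]
  exact fun h hh => (pow_vanish he n h hh).trans rfl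

omit [Coalgebra.IsCocomm k H] in
/-- postcomposition with an algebra map -/
noncomputable def post {A' : Type*} [Ring A'] [Algebra k A'] (φ : A →ₐ[k] A') : Conv k H A →ₐ[k] Conv k H A' where
  toFun f := toConv (φ.toLinearMap ∘ₗ f.ofConv)
  map_one' := WithConv.ext (LinearMap.ext fun h => by simp [LinearMap.convOne_def])
  map_mul' f g := WithConv.ext (LinearMap.algHom_comp_convMul_distrib φ f g)
  map_zero' := WithConv.ext (LinearMap.comp_zero _)
  map_add' f g := WithConv.ext (LinearMap.comp_add _ _ _)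
  commutes' r := WithConv.ext (LinearMap.ext fun h => by simp)

omit [Coalgebra.IsCocomm k H] in
@[simp] theorem post_apply {A' : Type*} [Ring A'] [Algebra k A'] (φ : A →ₐ[k] A') (f : Conv k H A) (h : H) :
    post φ f h = φ (f h) := rfl

end Conv

section Log

variable (k H) in
/-- `id - 1` -/
noncomputable def eC : Conv k H H := toConv LinearMap.id - 1

theorem eC_one : eC k H 1 = 0 := by
  simp [eC]

variable [CharZero k]

variable (k H) in
/-- the truncated logarithm of the identity -/
noncomputable def L (N : ℕ) : Conv k H H := logT k N (eC k H)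

variable [Coalgebra.IsCocomm k H]

theorem q_expT_L (N : ℕ) : q k H H N (expT k N (L k H N)) = q k H H N (toConv LinearMap.id) := by
  rw [expT_map, L, logT_map, expT_logT (q_pow_eq_zero eC_one N), ← map_one (q k H H N), ← map_add]
  simp [eC]

theorem L_primitive {N : ℕ} {h : H} (hh : h ∈ S k H N) : L k H N h ∈ SGA3y.primLie k H := by
  let i₁ : H →ₐ[k] H ⊗[k] H := Algebra.TensorProduct.includeLeft
  let i₂ : H →ₐ[k] H ⊗[k] H := Algebra.TensorProduct.includeRight
  let D : H →ₐ[k] H ⊗[k] H := Bialgebra.comulAlgHom k H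
  let qq := q k H (H ⊗[k] H) N
  have hD : post D (toConv (LinearMap.id : H →ₗ[k] H)) = post i₁ (toConv LinearMap.id) * post i₂ (toConv LinearMap.id) := by
    refine WithConv.ext (LinearMap.ext fun x => ?_)
    rw [Conv.mul_eq, post_apply]
    change Δ x = _
    induction Δ x using TensorProduct.induction_on with
    | zero => simp
    | tmul a b => simp [post, i₁, i₂]
    | add a b ha hb => simp only [map_add, ← ha, ← hb]
  have hcomm : Commute (post i₁ (toConv (LinearMap.id : H →ₗ[k] H))) (post i₂ (toConv LinearMap.id)) := by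
    refine WithConv.ext (LinearMap.ext fun x => ?_)
    rw [Conv.mul_eq, Conv.mul_eq]
    conv_rhs => rw [← Coalgebra.comm_comul k x]
    induction Δ x using TensorProduct.induction_on with
    | zero => simp
    | tmul a b => simp [post, i₁, i₂]
    | add a b ha hb => simp only [map_add, ha, hb]
  have hid : ∀ φ : H →ₐ[k] H ⊗[k] H, post φ (toConv (LinearMap.id : H →ₗ[k] H)) = 1 + post φ (eC k H) := fun φ => by
    rw [← map_one (post φ), ← map_add]; simp [eC]
  have hz : ∀ φ : H →ₐ[k] H ⊗[k] H, (post φ (eC k H)) 1 = 0 := fun φ => by rw [post_apply, eC_one, map_zero]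
  have h1 : qq (post D (L k H N)) = qq (post i₁ (L k H N) + post i₂ (L k H N)) := by
    simp only [L, logT_map, map_add]
    refine logT_mul (q_pow_eq_zero (hz i₁) N) (q_pow_eq_zero (hz i₂) N) (q_pow_eq_zero (hz D) N) ?_ ?_
    · have hc : Commute (post i₁ (eC k H)) (post i₂ (eC k H)) := by
        simp only [eC, map_sub, map_one]
        exact ((hcomm.sub_right (Commute.one_right _)).sub_left (Commute.one_left _))
      exact hc.map qq
    · rw [← map_one qq, ← map_add, ← map_add, ← map_add, ← map_mul, ← hid, ← hid, ← hid, hD]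
  exact q_eq_iff.1 h1 h hh

end Log

end GrothLib.CMM
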