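import Groth.Agent.Lib.CMM.Conv

/-!
# Powers of a primitive element and the Eulerian idempotent
-/

universe u v

open TensorProduct WithConv

namespace GrothLib.CMM

variable {k : Type u} [Field k] {H : Type u} [Ring H] [Bialgebra k H] {x : H}

local notation "Δ" => (CoalgebraStruct.comul (R := k) (A := H))

theorem comul_pow_prim (hx : x ∈ SGA3y.primLie k H) (n : ℕ) :
    Δ (x ^ n) = ∑ i ∈ Finset.range (n + 1), n.choose i • ((x ^ i) ⊗ₜ[k] (x ^ (n - i))) := by
  have hx' : Δ x = x ⊗ₜ[k] (1 : H) + (1 : H) ⊗ₜ[k] x := hx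
  have hc : Commute (x ⊗ₜ[k] (1 : H)) ((1 : H) ⊗ₜ[k] x) := by
    simp [Commute, SemiconjBy]
  rw [Bialgebra.comul_pow, hx', hc.add_pow]
  refine Finset.sum_congr rfl fun i _ => ?_
  rw [Algebra.TensorProduct.tmul_pow, Algebra.TensorProduct.tmul_pow, one_pow, one_pow,
    Algebra.TensorProduct.tmul_mul_tmul, one_mul, mul_one, ← Nat.cast_comm, nsmul_eq_mul]

theorem pow_mem_S (hx : x ∈ SGA3y.primLie k H) (n : ℕ) : x ^ n ∈ S k H (n + 1) := by
  induction n using Nat.strong_induction_on with
  | _ n ih =>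
    rw [mem_S_succ, comul_pow_prim hx, Finset.sum_range_succ, Nat.choose_self, Nat.sub_self, pow_zero, one_smul,
      add_sub_cancel_right]
    refine Submodule.sum_mem _ fun i hi => nsmul_mem ?_ _
    exact ⟨(⟨x ^ i, S_mono (Nat.succ_le_of_lt (Finset.mem_range.1 hi)) (ih i (Finset.mem_range.1 hi))⟩ : S k H n) ⊗ₜ _, rfl⟩

theorem conv_apply_pow {A : Type v} [Ring A] [Algebra k A] (hx : x ∈ SGA3y.primLie k H) (f g : Conv k H A) (n : ℕ) :
    (f * g) (x ^ n) = ∑ i ∈ Finset.range (n + 1), n.choose i • (f (x ^ i) * g (x ^ (n - i))) := by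
  rw [Conv.mul_eq, comul_pow_prim hx]
  simp only [map_sum, map_nsmul, TensorProduct.map_tmul, LinearMap.mul'_apply]

variable [CharZero k]

open Polynomial in
theorem aeval_eC_pow (hx : x ∈ SGA3y.primLie k H) (p : k[X]) : ∀ n : ℕ,
    (Polynomial.aeval (eC k H) p) (x ^ n) =
      ((n.factorial : k) * PowerSeries.coeff n (Polynomial.aeval (PowerSeries.exp k - 1) p)) • x ^ n := by
  have hε : CoalgebraStruct.counit (R := k) x = 0 := by
    have h := congrArg (fun z => TensorProduct.lid k H ((CoalgebraStruct.counit (R := k) (A := H)).rTensor H z))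
      (show Δ x = x ⊗ₜ[k] (1 : H) + (1 : H) ⊗ₜ[k] x from hx)
    rw [Coalgebra.rTensor_counit_comul] at h
    simp only [map_add, LinearMap.rTensor_tmul, TensorProduct.lid_tmul, Bialgebra.counit_one, one_smul, right_eq_add] at h
    rcases smul_eq_zero.1 h with h' | h'
    · exact h'
    · rw [← mul_one x, h', mul_zero, map_zero]
  have hmul : ∀ (p q : k[X]),
      (∀ n : ℕ, (Polynomial.aeval (eC k H) p) (x ^ n) =
        ((n.factorial : k) * PowerSeries.coeff n (Polynomial.aeval (PowerSeries.exp k - 1) p)) • x ^ n) →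
      (∀ n : ℕ, (Polynomial.aeval (eC k H) q) (x ^ n) =
        ((n.factorial : k) * PowerSeries.coeff n (Polynomial.aeval (PowerSeries.exp k - 1) q)) • x ^ n) →
      ∀ n : ℕ, (Polynomial.aeval (eC k H) (p * q)) (x ^ n) =
        ((n.factorial : k) * PowerSeries.coeff n (Polynomial.aeval (PowerSeries.exp k - 1) (p * q))) • x ^ n := by
    intro p q hp hq n
    rw [map_mul, conv_apply_pow hx, map_mul, PowerSeries.coeff_mul,
      Finset.Nat.sum_antidiagonal_eq_sum_range_succ_mk, Finset.mul_sum, Finset.sum_smul]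
    refine Finset.sum_congr rfl fun i hi => ?_
    have hin : i ≤ n := Nat.lt_succ_iff.1 (Finset.mem_range.1 hi)
    rw [hp, hq, smul_mul_smul_comm, ← pow_add, Nat.add_sub_cancel' hin, ← Nat.cast_smul_eq_nsmul k, smul_smul]
    congr 1
    rw [← Nat.choose_mul_factorial_mul_factorial hin]
    push_cast
    ring
  induction p using Polynomial.induction_on with
  | C a =>
    intro n
    rw [aeval_C, LinearMap.convAlgebraMap_apply, aeval_C, PowerSeries.algebraMap_apply, PowerSeries.coeff_C,
      Bialgebra.counit_pow, hε]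
    rcases n with _ | n <;> simp [Algebra.smul_def]
  | add p q hp hq => intro n; simp only [map_add, WithConv.ofConv_add, LinearMap.add_apply, hp n, hq n, mul_add, add_smul]
  | monomial m a ih =>
    rw [pow_succ, ← mul_assoc]
    refine hmul _ _ ih fun n => ?_
    rw [aeval_X, aeval_X, eC, map_sub, PowerSeries.coeff_exp, PowerSeries.coeff_one]
    rcases n with _ | n
    · simp
    · simp [Bialgebra.counit_pow, hε, Nat.factorial_ne_zero]

variable (k) in
theorem coeff_log_exp {N n : ℕ} (hn : n < N) :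
    PowerSeries.coeff n (Polynomial.aeval (PowerSeries.exp k - 1) (PowerSeries.trunc N (PowerSeries.log k))) =
      PowerSeries.coeff n (PowerSeries.X : PowerSeries k) := by
  let J : Ideal (PowerSeries k) := Ideal.span {PowerSeries.X ^ N}
  let π := Ideal.Quotient.mkₐ k J
  have hker : ∀ f g : PowerSeries k, π f = π g → ∀ d < N, PowerSeries.coeff d f = PowerSeries.coeff d g := by
    intro f g h d hd
    have := PowerSeries.X_pow_dvd_iff.1 (Ideal.mem_span_singleton.1 (Ideal.Quotient.eq.1 h)) d hd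
    rwa [map_sub, sub_eq_zero] at this
  have hX : π PowerSeries.X ^ N = 0 := by
    rw [← map_pow]; exact Ideal.Quotient.eq_zero_iff_mem.2 (Ideal.mem_span_singleton_self _)
  have he : π (PowerSeries.exp k - 1) ^ N = 0 := by
    obtain ⟨r, hr⟩ := PowerSeries.X_dvd_iff.2 (show PowerSeries.constantCoeff (PowerSeries.exp k - 1) = 0 by simp)
    rw [hr, map_mul, mul_pow, hX, zero_mul]
  refine hker _ _ ?_ n hn
  change π (logT k N (PowerSeries.exp k - 1)) = π PowerSeries.X
  rw [logT_map]
  refine expT_inj (k := k) (logT_pow_eq_zero he) hX (Commute.all _ _) ?_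
  rw [expT_logT he, ← map_one π, ← map_add, add_sub_cancel, ← expT_map]
  refine Ideal.Quotient.eq.2 (Ideal.mem_span_singleton.2 (PowerSeries.X_pow_dvd_iff.2 fun d hd => ?_))
  have h := Polynomial.aeval_algHom_apply (Polynomial.coeToPowerSeries.algHom (R := k) k) (Polynomial.X : Polynomial k)
    (PowerSeries.trunc N (PowerSeries.exp k))
  simp only [Polynomial.aeval_X_left_apply, Polynomial.coeToPowerSeries.algHom_apply, Algebra.algebraMap_self,
    PowerSeries.map_id, id_eq, Polynomial.coe_X, RingHom.id_apply] at h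
  rw [expT, map_sub, sub_eq_zero, h, Polynomial.coeff_coe, PowerSeries.coeff_trunc, if_pos hd]

theorem L_pow (hx : x ∈ SGA3y.primLie k H) {N n : ℕ} (hn : n < N) :
    L k H N (x ^ n) = if n = 1 then x else 0 := by
  rw [L, logT, aeval_eC_pow hx, coeff_log_exp k hn, PowerSeries.coeff_X]
  split_ifs with h <;> simp [h]

end GrothLib.CMM
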