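import Mathlib.Algebra.Lie.UniversalEnveloping
import Mathlib.Algebra.Polynomial.Roots
import Mathlib.LinearAlgebra.Dual.Lemmas
import Mathlib.Algebra.Lie.OfAssociative
import Mathlib.Algebra.Polynomial.Eval.Coeff
import Mathlib.Algebra.CharZero.Infinite
import Mathlib.Tactic.NoncommRing

/-!
# The enveloping algebra is spanned by powers
-/

universe u v

attribute [local instance] LieRing.ofAssociativeRing

open Polynomial

namespace GrothLib.CMM

variable {k : Type u} [Field k] [CharZero k] {B : Type v} [Ring B] [Algebra k B]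

theorem mem_of_forall_pow_mem (W : Submodule k B) (x y : B) (n : ℕ) (h : ∀ t : k, (x + t • y) ^ n ∈ W) :
    ∑ i ∈ Finset.range n, x ^ i * y * x ^ (n - 1 - i) ∈ W := by
  classical
  let p : B[X] := (Polynomial.C x + Polynomial.C y * Polynomial.X) ^ n
  have hp1 : ∀ m : ℕ, ((Polynomial.C x + Polynomial.C y * Polynomial.X) ^ m).coeff 0 = x ^ m ∧
      ((Polynomial.C x + Polynomial.C y * Polynomial.X) ^ m).coeff 1 = ∑ i ∈ Finset.range m, x ^ i * y * x ^ (m - 1 - i) := by
    intro m
    induction m with
    | zero => simp [Polynomial.coeff_one]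
    | succ m ih =>
      refine ⟨?_, ?_⟩
      · rw [pow_succ, mul_add, coeff_add, coeff_mul_C, ← mul_assoc, coeff_mul_X_zero, add_zero, ih.1, pow_succ]
      · rw [pow_succ, mul_add, coeff_add, coeff_mul_C, ← mul_assoc, coeff_mul_X, coeff_mul_C, ih.1, ih.2,
          Finset.sum_range_succ, Finset.sum_mul, Nat.add_sub_cancel, Nat.sub_self, pow_zero, mul_one]
        congr 1
        refine Finset.sum_congr rfl fun i hi => ?_
        have := Finset.mem_range.1 hi
        rw [mul_assoc, ← pow_succ]
        congr 2
        omega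
  rw [← (hp1 n).2]
  by_contra hne
  obtain ⟨φ, hφ, hφW⟩ : ∃ φ : B →ₗ[k] k, φ (p.coeff 1) ≠ 0 ∧ ∀ w ∈ W, φ w = 0 := by
    obtain ⟨φ, hφ⟩ : ∃ φ : Module.Dual k (B ⧸ W), φ (W.mkQ (p.coeff 1)) ≠ 0 := by
      by_contra! hno
      exact hne ((Submodule.Quotient.mk_eq_zero W).1 ((Module.forall_dual_apply_eq_zero_iff k _).1 hno))
    exact ⟨φ ∘ₗ W.mkQ, hφ, fun w hw => by simp [(Submodule.Quotient.mk_eq_zero W).2 hw]⟩
  let P : k[X] := ∑ i ∈ Finset.range (p.natDegree + 1), Polynomial.C (φ (p.coeff i)) * Polynomial.X ^ i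
  have hev : ∀ t : k, P.eval t = φ ((x + t • y) ^ n) := by
    intro t
    have hring : Polynomial.eval₂ (RingHom.id B) (algebraMap k B t) p = (x + t • y) ^ n := by
      change Polynomial.eval₂RingHom' (RingHom.id B) (algebraMap k B t) (fun a => Algebra.commute_algebraMap_right t a) p = _
      rw [map_pow]
      congr 1
      change Polynomial.eval₂ (RingHom.id B) (algebraMap k B t) _ = _
      rw [eval₂_add, eval₂_C, eval₂_mul_X, eval₂_C, RingHom.id_apply, RingHom.id_apply, Algebra.smul_def, Algebra.commutes]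
    rw [← hring, eval₂_eq_sum_range, map_sum, eval_finset_sum]
    refine Finset.sum_congr rfl fun i _ => ?_
    rw [RingHom.id_apply, ← map_pow, ← Algebra.commutes, ← Algebra.smul_def, map_smul, eval_mul, eval_C, eval_pow, eval_X,
      smul_eq_mul, mul_comm]
  have hP : P = 0 := Polynomial.zero_of_eval_zero P fun t => by rw [hev, hφW _ (h t)]
  refine hφ ?_
  by_cases hdeg : 1 < p.natDegree + 1
  · have := congrArg (fun r : k[X] => r.coeff 1) hP
    simpa [P, finset_sum_coeff, coeff_C_mul_X_pow, hdeg] using this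
  · rw [Polynomial.coeff_eq_zero_of_natDegree_lt (by omega), map_zero]

variable {L : Type*} [LieRing L] [LieAlgebra k L] (f : L →ₗ⁅k⁆ B)

/-- the span of powers up to degree `m` -/
def powSpan (m : ℕ) : Submodule k B := Submodule.span k {b | ∃ (z : L) (j : ℕ), j ≤ m ∧ f z ^ j = b}

theorem pow_mem_powSpan {z : L} {j m : ℕ} (h : j ≤ m) : f z ^ j ∈ powSpan f m :=
  Submodule.subset_span ⟨z, j, h, rfl⟩

theorem powSpan_mono {m m' : ℕ} (h : m ≤ m') : powSpan f m ≤ powSpan f m' :=
  Submodule.span_mono fun _ ⟨z, j, hj, hb⟩ => ⟨z, j, hj.trans h, hb⟩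

theorem mul_powSpan : ∀ (m : ℕ) (y : L), ∀ b ∈ powSpan f m, f y * b ∈ powSpan f (m + 1) := by
  intro m
  induction m using Nat.strong_induction_on with
  | _ m IH =>
    have key : ∀ (y z : L) (j : ℕ), j ≤ m → f y * f z ^ j ∈ powSpan f (m + 1) := by
      intro y z j hj
      rcases eq_or_lt_of_le hj with rfl | hlt
      swap
      · exact powSpan_mono f (by omega) (IH j hlt y _ (pow_mem_powSpan f le_rfl))
      -- iterate left multiplication
      have hleft : ∀ (l r : ℕ) (a : B), l + r ≤ j → a ∈ powSpan f r → f z ^ l * a ∈ powSpan f (l + r) := by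
        intro l
        induction l with
        | zero => intro r a _ ha; simpa using ha
        | succ l ihl =>
          intro r a hlr ha
          rw [pow_succ', mul_assoc, show l + 1 + r = l + r + 1 by omega]
          exact IH (l + r) (by omega) z _ (ihl r a (by omega) ha)
      have hsum := mem_of_forall_pow_mem (powSpan f (j + 1)) (f z) (f y) (j + 1) fun t => by
        rw [← map_smul f, ← map_add f]; exact pow_mem_powSpan f le_rfl
      have hdiff : ∀ i, i ≤ j → f z ^ i * f y * f z ^ (j - i) - f y * f z ^ j ∈ powSpan f (j + 1) := by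
        intro i
        induction i with
        | zero => intro _; simp
        | succ i ihi =>
          intro hi
          have hrw : f z ^ (i + 1) * f y * f z ^ (j - (i + 1)) - f z ^ i * f y * f z ^ (j - i) =
              f z ^ i * (f ⁅z, y⁆ * f z ^ (j - (i + 1))) := by
            rw [LieHom.map_lie, LieRing.of_associative_ring_bracket, show j - i = j - (i + 1) + 1 by omega,
              pow_succ (f z) i, pow_succ' (f z) (j - (i + 1))]
            noncomm_ring
          have h1 : f z ^ i * (f ⁅z, y⁆ * f z ^ (j - (i + 1))) ∈ powSpan f (j + 1) :=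
            powSpan_mono f (by omega) (hleft i (j - (i + 1) + 1) _ (by omega)
              (IH (j - (i + 1)) (by omega) _ _ (pow_mem_powSpan f le_rfl)))
          rw [← hrw] at h1
          have := add_mem h1 (ihi (by omega))
          rwa [sub_add_sub_cancel] at this
      have : ((j + 1 : ℕ) : k) • (f y * f z ^ j) ∈ powSpan f (j + 1) := by
        have h2 := sub_mem hsum (Submodule.sum_mem _ fun i (hi : i ∈ Finset.range (j + 1)) =>
          hdiff i (Nat.lt_succ_iff.1 (Finset.mem_range.1 hi)))
        rw [← Finset.sum_sub_distrib] at h2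
        simp only [add_tsub_cancel_right, sub_sub_cancel, Finset.sum_const, Finset.card_range] at h2
        rwa [Nat.cast_smul_eq_nsmul]
      have := Submodule.smul_mem _ ((j + 1 : ℕ) : k)⁻¹ this
      rwa [inv_smul_smul₀ (Nat.cast_ne_zero.2 (Nat.succ_ne_zero j))] at this
    intro y b hb
    induction hb using Submodule.span_induction with
    | mem b hb => obtain ⟨z, j, hj, rfl⟩ := hb; exact key y z j hj
    | zero => simp
    | add a b _ _ ha hb => rw [mul_add]; exact add_mem ha hb
    | smul c a _ ha => rw [mul_smul_comm]; exact Submodule.smul_mem _ _ ha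

theorem span_pow_eq_top (u : UniversalEnvelopingAlgebra k L) :
    u ∈ Submodule.span k {b | ∃ (z : L) (j : ℕ), UniversalEnvelopingAlgebra.ι k z ^ j = b} := by
  set W := Submodule.span k {b | ∃ (z : L) (j : ℕ), UniversalEnvelopingAlgebra.ι k z ^ j = b}
  have hs : Function.Surjective (UniversalEnvelopingAlgebra.mkAlgHom k L) := RingCon.mk'_surjective _
  obtain ⟨t, rfl⟩ := hs u
  suffices ∀ b ∈ W, UniversalEnvelopingAlgebra.mkAlgHom k L t * b ∈ W by
    simpa using this 1 (Submodule.subset_span ⟨0, 0, by simp⟩)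
  induction t using TensorAlgebra.induction with
  | algebraMap r => intro b hb; rw [AlgHom.commutes, ← Algebra.smul_def]; exact Submodule.smul_mem _ _ hb
  | ι z =>
    intro b hb
    induction hb using Submodule.span_induction with
    | mem b hb =>
      obtain ⟨z', j, rfl⟩ := hb
      refine (Submodule.span_le.2 ?_ : powSpan (UniversalEnvelopingAlgebra.ι k) (j + 1) ≤ W) ?_
      · rintro b ⟨a, i, -, h⟩; exact Submodule.subset_span ⟨a, i, h⟩
      exact mul_powSpan (UniversalEnvelopingAlgebra.ι k) j z _ (pow_mem_powSpan _ le_rfl)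
    | zero => simp
    | add a b _ _ ha hb => rw [mul_add]; exact add_mem ha hb
    | smul c a _ ha => rw [mul_smul_comm]; exact Submodule.smul_mem _ _ ha
  | mul a b ha hb => intro c hc; rw [map_mul, mul_assoc]; exact ha _ (hb _ hc)
  | add a b ha hb => intro c hc; rw [map_add, add_mul]; exact add_mem (ha _ hc) (hb _ hc)

end GrothLib.CMM
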