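import Mathlib.RingTheory.PowerSeries.Log
import Mathlib.RingTheory.PowerSeries.Trunc
import Mathlib.RingTheory.Nilpotent.Exp

/-!
# Truncated exponential and logarithm of nilpotent elements
-/

universe u v

open Polynomial

namespace GrothLib.CMM

variable (k : Type u) [Field k] [CharZero k]

theorem one_add_X_mul_deriv_log : (1 + PowerSeries.X) * PowerSeries.derivative k (PowerSeries.log k) = 1 := by
  rw [PowerSeries.deriv_log, add_mul, one_mul]
  ext n
  cases n with
  | zero => simp
  | succ n => simp [PowerSeries.coeff_one, pow_succ, PowerSeries.coeff_succ_X_mul]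

theorem exp_subst_log : (PowerSeries.exp k).subst (PowerSeries.log k) = 1 + PowerSeries.X := by
  set G : PowerSeries k := (PowerSeries.exp k).subst (PowerSeries.log k) with hG
  have hd : PowerSeries.derivative k G = G * PowerSeries.derivative k (PowerSeries.log k) := by
    rw [hG, PowerSeries.derivative_subst PowerSeries.HasSubst.log, PowerSeries.derivative_exp]
  have h1 : (1 + PowerSeries.X) * PowerSeries.derivative k G = G := by
    rw [hd, mul_left_comm, one_add_X_mul_deriv_log, mul_one]
  have h0 : PowerSeries.coeff 0 G = 1 := by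
    rw [hG, PowerSeries.coeff_subst' PowerSeries.HasSubst.log, finsum_eq_single _ 0]
    · simp
    · intro d hd
      simp [hd]
  have hrec : ∀ n : ℕ, PowerSeries.coeff (n + 2) G * ((n : k) + 2) = PowerSeries.coeff (n + 1) G * (-(n : k)) := by
    intro n
    have := congrArg (PowerSeries.coeff (n + 1)) h1
    rw [add_mul, one_mul, map_add, PowerSeries.coeff_succ_X_mul, PowerSeries.coeff_derivative, PowerSeries.coeff_derivative] at this
    push_cast at this
    linear_combination this
  have hone : PowerSeries.coeff 1 G = 1 := by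
    have := congrArg (PowerSeries.coeff 0) h1
    rw [add_mul, one_mul, map_add, PowerSeries.coeff_derivative] at this
    simpa [h0] using this
  have hbig : ∀ n : ℕ, PowerSeries.coeff (n + 2) G = 0 := by
    intro n
    have hne : ((n : k) + 2) ≠ 0 := by exact_mod_cast (Nat.succ_ne_zero (n + 1))
    induction n with
    | zero => simpa [hne] using hrec 0
    | succ n ih =>
      have := hrec (n + 1)
      rw [ih (by exact_mod_cast (Nat.succ_ne_zero (n + 1))), zero_mul] at this
      exact (mul_eq_zero.1 this).resolve_right hne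
  ext n
  match n with
  | 0 => simpa using h0
  | 1 => simp [hone]
  | n + 2 => simp [hbig, PowerSeries.coeff_one, PowerSeries.coeff_X]

variable {k} {B : Type v} [Ring B] [Algebra k B] {e : B} {N : ℕ}

theorem aeval_eq_of_coeff (he : e ^ N = 0) {p q : k[X]} (h : ∀ d < N, p.coeff d = q.coeff d) :
    aeval e p = aeval e q := by
  obtain ⟨r, hr⟩ := X_pow_dvd_iff.2 (fun d hd => by rw [coeff_sub, h d hd, sub_self] : ∀ d < N, (p - q).coeff d = 0)
  rw [← sub_eq_zero, ← map_sub, hr, map_mul, map_pow, aeval_X, he, zero_mul]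

/-- evaluation of a power series at a nilpotent element -/
noncomputable def ev (he : e ^ N = 0) : PowerSeries k →ₐ[k] B where
  toFun f := aeval e (PowerSeries.trunc N f)
  map_one' := by
    refine (aeval_eq_of_coeff (q := (1 : k[X])) he fun d hd => ?_).trans (map_one _)
    simp [PowerSeries.coeff_trunc, hd, PowerSeries.coeff_one, Polynomial.coeff_one]
  map_mul' f g := by
    rw [← map_mul]
    refine aeval_eq_of_coeff he fun d hd => ?_
    rw [PowerSeries.coeff_trunc, if_pos hd, PowerSeries.coeff_mul, Polynomial.coeff_mul]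
    refine Finset.sum_congr rfl fun x hx => ?_
    have := Finset.mem_antidiagonal.1 hx
    rw [PowerSeries.coeff_trunc, PowerSeries.coeff_trunc, if_pos (by omega), if_pos (by omega)]
  map_zero' := by simp
  map_add' f g := by rw [map_add, map_add]
  commutes' r := by
    refine (aeval_eq_of_coeff (q := Polynomial.C r) he fun d hd => ?_).trans (aeval_C _ r)
    simp [PowerSeries.coeff_trunc, hd, PowerSeries.coeff_C, Polynomial.coeff_C, PowerSeries.algebraMap_apply]

theorem ev_coe (he : e ^ N = 0) (p : k[X]) : ev he (p : PowerSeries k) = aeval e p :=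
  aeval_eq_of_coeff he fun d hd => by simp [PowerSeries.coeff_trunc, hd]

theorem ev_X (he : e ^ N = 0) : ev he (PowerSeries.X : PowerSeries k) = e := by
  rw [← Polynomial.coe_X, ev_coe, aeval_X]

variable (k) in
/-- the truncated logarithm of `1 + e` -/
noncomputable def logT (N : ℕ) (e : B) : B := aeval e (PowerSeries.trunc N (PowerSeries.log k))

variable (k) in
/-- the truncated exponential -/
noncomputable def expT (N : ℕ) (e : B) : B := aeval e (PowerSeries.trunc N (PowerSeries.exp k))

theorem logT_map {C : Type*} [Ring C] [Algebra k C] (φ : B →ₐ[k] C) (N : ℕ) (e : B) :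
    φ (logT k N e) = logT k N (φ e) := (aeval_algHom_apply φ e _).symm

theorem expT_map {C : Type*} [Ring C] [Algebra k C] (φ : B →ₐ[k] C) (N : ℕ) (e : B) :
    φ (expT k N e) = expT k N (φ e) := (aeval_algHom_apply φ e _).symm

theorem logT_pow_eq_zero (he : e ^ N = 0) : logT k N e ^ N = 0 := by
  change ev he (PowerSeries.log k) ^ N = 0
  obtain ⟨r, hr⟩ := PowerSeries.X_dvd_iff.2 (PowerSeries.constantCoeff_log (A := k))
  rw [← map_pow, hr, mul_pow, map_mul, map_pow, ev_X, he, zero_mul]

theorem expT_logT (he : e ^ N = 0) : expT k N (logT k N e) = 1 + e := by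
  have h := congrArg (ev (k := k) he) (exp_subst_log k)
  rw [map_add, map_one, ev_X] at h
  rw [← h]
  obtain ⟨r, hr⟩ : PowerSeries.X ^ N ∣ PowerSeries.exp k - (PowerSeries.trunc N (PowerSeries.exp k) : PowerSeries k) :=
    PowerSeries.X_pow_dvd_iff.2 fun d hd => by simp [PowerSeries.coeff_trunc, hd]
  rw [sub_eq_iff_eq_add] at hr
  conv_rhs => rw [hr, ← PowerSeries.coe_substAlgHom PowerSeries.HasSubst.log, map_add, map_mul, map_pow,
    PowerSeries.substAlgHom_X, PowerSeries.coe_substAlgHom PowerSeries.HasSubst.log, PowerSeries.subst_coe PowerSeries.HasSubst.log]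
  rw [map_add, map_mul, map_pow, show ev he (PowerSeries.log k) = logT k N e from rfl, logT_pow_eq_zero he, zero_mul,
    zero_add, ← aeval_algHom_apply]
  rfl

theorem expT_eq_exp [Module ℚ B] (he : e ^ N = 0) : expT k N e = IsNilpotent.exp e := by
  have hdeg : (PowerSeries.trunc N (PowerSeries.exp k)).natDegree < N + 1 := Nat.lt_succ_of_le
    (Polynomial.natDegree_le_iff_coeff_eq_zero.2 fun m hm => by rw [PowerSeries.coeff_trunc, if_neg (by omega)])
  rw [IsNilpotent.exp_eq_sum he, expT, aeval_eq_sum_range' hdeg]
  refine (Finset.sum_subset (Finset.range_subset_range.2 (Nat.le_succ N)) ?_).symm.trans (Finset.sum_congr rfl fun i hi => ?_)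
  · intro i _ hi
    rw [PowerSeries.coeff_trunc, if_neg (by simpa using hi), zero_smul]
  · rw [PowerSeries.coeff_trunc, if_pos (Finset.mem_range.1 hi), PowerSeries.coeff_exp, one_div]
    exact Rat.cast_smul_eq_qsmul k _ _

theorem expT_inj {a b : B} {M : ℕ} (ha : a ^ N = 0) (hb : b ^ M = 0) (hab : Commute a b)
    (h : expT k N a = expT k M b) : a = b := by
  let : Algebra ℚ B := RingHom.toAlgebra' ((algebraMap k B).comp (algebraMap ℚ k)) fun q x => Algebra.commutes _ x
  rw [expT_eq_exp ha, expT_eq_exp hb] at h
  have hna : IsNilpotent a := ⟨N, ha⟩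
  have hnb : IsNilpotent b := ⟨M, hb⟩
  set d := a - b with hd
  have hnd : IsNilpotent d := Commute.isNilpotent_sub hab hna hnb
  have h1 : IsNilpotent.exp d = 1 := by
    rw [hd, sub_eq_add_neg, IsNilpotent.exp_add_of_commute hab.neg_right hna hnb.neg, h,
      IsNilpotent.exp_mul_exp_neg_self hnb]
  obtain ⟨n, hn⟩ := hnd
  rw [IsNilpotent.exp_eq_sum (k := n + 2) (pow_eq_zero_of_le (by omega) hn), Finset.sum_range_succ'] at h1
  simp only [Nat.factorial_zero, Nat.cast_one, inv_one, pow_zero, one_smul, add_eq_right] at h1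
  have hfac : d * (∑ i ∈ Finset.range (n + 1), ((i + 1).factorial : ℚ)⁻¹ • d ^ i) = 0 := by
    rw [Finset.mul_sum]
    refine Eq.trans (Finset.sum_congr rfl fun i _ => ?_) h1
    rw [mul_smul_comm, ← pow_succ']
  have hu : IsUnit (∑ i ∈ Finset.range (n + 1), ((i + 1).factorial : ℚ)⁻¹ • d ^ i) := by
    rw [Finset.sum_range_succ']
    simp only [zero_add, Nat.factorial_one, Nat.cast_one, inv_one, pow_zero, one_smul]
    refine IsNilpotent.isUnit_add_one ?_
    exact Commute.isNilpotent_sum (fun i _ => IsNilpotent.smul (⟨n, by rw [← pow_mul]; exact pow_eq_zero_of_le (Nat.le_mul_of_pos_left n (Nat.succ_pos i)) hn⟩) _)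
      (fun i j _ _ => (((Commute.refl d).pow_pow _ _).smul_right _).smul_left _)
  exact sub_eq_zero.1 (hu.mul_left_eq_zero.1 hfac)

theorem logT_mul {e f g : B} (he : e ^ N = 0) (hf : f ^ N = 0) (hg : g ^ N = 0) (hef : Commute e f)
    (h : 1 + g = (1 + e) * (1 + f)) : logT k N g = logT k N e + logT k N f := by
  let : Algebra ℚ B := RingHom.toAlgebra' ((algebraMap k B).comp (algebraMap ℚ k)) fun q x => Algebra.commutes _ x
  have hg' : g = e + f + e * f := by
    refine add_left_cancel (a := (1 : B)) ?_
    rw [h, add_mul, one_mul, mul_add, mul_one]; abel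
  have c1 : ∀ (p q : k[X]) {x y : B}, Commute x y → Commute (aeval x p) (aeval y q) := by
    intro p q x y hxy
    have h1 : ∀ (r : k[X]) {a : B}, Commute x a → Commute (aeval x r) a := fun r a ha => by
      induction r using Polynomial.induction_on' with
      | add u v hu hv => rw [map_add]; exact hu.add_left hv
      | monomial n c => rw [aeval_monomial]; exact (Algebra.commute_algebraMap_left c a).mul_left (ha.pow_left n)
    refine h1 p ?_
    induction q using Polynomial.induction_on' with
    | add u v hu hv => rw [map_add]; exact hu.add_right hv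
    | monomial n c => rw [aeval_monomial]; exact (Algebra.commute_algebraMap_right c x).mul_right (hxy.pow_right n)
  have ceg : Commute e g := hg' ▸ (((Commute.refl e).add_right hef).add_right ((Commute.refl e).mul_right hef))
  have cfg : Commute f g := hg' ▸ ((hef.symm.add_right (Commute.refl f)).add_right (hef.symm.mul_right (Commute.refl f)))
  have hle := logT_pow_eq_zero (k := k) he
  have hlf := logT_pow_eq_zero (k := k) hf
  have hlg := logT_pow_eq_zero (k := k) hg
  have clef : Commute (logT k N e) (logT k N f) := c1 _ _ hef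
  obtain ⟨M, hM⟩ := Commute.isNilpotent_add clef ⟨N, hle⟩ ⟨N, hlf⟩
  refine expT_inj (k := k) hlg hM (Commute.add_right (c1 _ _ ceg.symm) (c1 _ _ cfg.symm)) ?_
  rw [expT_eq_exp hlg, expT_eq_exp hM, IsNilpotent.exp_add_of_commute clef ⟨N, hle⟩ ⟨N, hlf⟩,
    ← expT_eq_exp (k := k) hle, ← expT_eq_exp (k := k) hlf, ← expT_eq_exp (k := k) hlg, expT_logT he, expT_logT hf, expT_logT hg, h]

end GrothLib.CMM
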